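import Mathlib.RingTheory.Derivation.Basic
import Mathlib.Algebra.Module.LocalizedModule.Basic
import Mathlib.Algebra.Module.LocalizedModule.IsLocalization

/-!
# Connections along a derivation

For a derivation `θ : A → A`, a `θ`-connection on an `A`-module `M` is an additive map `D : M → M`
with `D (a • m) = θ a • m + a • D m`.  We show that connections extend to localisations
(`Conn.localized`), using the twisted module `Tw θ X = X × X` with action
`a • (x, x') = (a • x, a • x' + θ a • x)`: a connection on `X` is the same as an `A`-linear section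
`x ↦ (x, D x)` of the first projection.

(helper45)
-/

set_option autoImplicit false

namespace Groth.Agent.H45.DerConn

universe v u

variable {A : Type u} [CommRing A] (θ : Derivation ℤ A A)

/-- a `θ`-connection on a module -/
structure Conn (M : Type v) [AddCommGroup M] [Module A M] where
  D : M →+ M
  leib : ∀ (a : A) (m : M), D (a • m) = θ a • m + a • D m

namespace Conn

variable {θ} {M N : Type v} [AddCommGroup M] [Module A M] [AddCommGroup N] [Module A N]

/-- the zero connection on a trivial module -/
def ofSubsingleton [Subsingleton M] : Conn θ M := ⟨0, fun _ _ => Subsingleton.elim _ _⟩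

variable (θ) in
/-- the derivation itself is a connection on the ring -/
def self : Conn θ A where
  D := (θ : A →ₗ[ℤ] A).toAddMonoidHom
  leib a m := by
    change θ (a * m) = θ a * m + a * θ m
    rw [Derivation.leibniz, smul_eq_mul, smul_eq_mul]
    ring

/-- transport along a linear equivalence -/
def ofEquiv (e : M ≃ₗ[A] N) (c : Conn θ M) : Conn θ N where
  D := (e : M →+ N).comp (c.D.comp (e.symm : N →+ M))
  leib a n := by
    change e (c.D (e.symm (a • n))) = θ a • n + a • e (c.D (e.symm n))
    rw [map_smul, c.leib, map_add, map_smul, map_smul, LinearEquiv.apply_symm_apply]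

end Conn

/-- the twisted module `X × X` with `a • (x, x') = (a • x, a • x' + θ a • x)` -/
def Tw (_θ : Derivation ℤ A A) (X : Type v) : Type v := X × X

namespace Tw

variable {X Y : Type v} [AddCommGroup X] [Module A X] [AddCommGroup Y] [Module A Y]

instance : AddCommGroup (Tw θ X) := inferInstanceAs (AddCommGroup (X × X))

@[ext] lemma ext {p q : Tw θ X} (h1 : p.1 = q.1) (h2 : p.2 = q.2) : p = q := Prod.ext h1 h2

instance : SMul A (Tw θ X) := ⟨fun a p => (a • p.1, a • p.2 + θ a • p.1)⟩

lemma smul_fst (a : A) (p : Tw θ X) : (a • p).1 = a • p.1 := rfl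
lemma smul_snd (a : A) (p : Tw θ X) : (a • p).2 = a • p.2 + θ a • p.1 := rfl
lemma add_fst (p q : Tw θ X) : (p + q).1 = p.1 + q.1 := rfl
lemma add_snd (p q : Tw θ X) : (p + q).2 = p.2 + q.2 := rfl
lemma zero_fst : (0 : Tw θ X).1 = 0 := rfl
lemma zero_snd : (0 : Tw θ X).2 = 0 := rfl

instance : Module A (Tw θ X) where
  one_smul p := by
    ext
    · rw [smul_fst, one_smul]
    · rw [smul_snd, one_smul, Derivation.map_one_eq_zero, zero_smul, add_zero]
  mul_smul a b p := by
    ext
    · rw [smul_fst, smul_fst, smul_fst, mul_smul]
    · rw [smul_snd, smul_snd, smul_snd, smul_fst, Derivation.leibniz, smul_eq_mul, smul_eq_mul,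
        mul_smul, smul_add, add_smul, mul_smul, mul_smul]
      rw [smul_comm (θ a) b p.1]
      abel
  smul_zero a := by
    ext
    · rw [smul_fst, zero_fst, smul_zero]
    · rw [smul_snd, zero_snd, zero_fst, smul_zero, smul_zero, add_zero]
  smul_add a p q := by
    ext
    · rw [smul_fst, add_fst, add_fst, smul_fst, smul_fst, smul_add]
    · rw [smul_snd, add_snd, add_snd, add_fst, smul_snd, smul_snd, smul_add, smul_add]
      abel
  add_smul a b p := by
    ext
    · rw [smul_fst, add_fst, smul_fst, smul_fst, add_smul]
    · rw [smul_snd, add_snd, smul_snd, smul_snd, add_smul, map_add, add_smul]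
      abel
  zero_smul p := by
    ext
    · rw [smul_fst, zero_smul, zero_fst]
    · rw [smul_snd, zero_smul, map_zero, zero_smul, add_zero, zero_snd]

/-- the first projection, a linear map -/
def fstL : Tw θ X →ₗ[A] X where
  toFun p := p.1
  map_add' _ _ := rfl
  map_smul' _ _ := rfl

/-- the second projection, an additive map -/
def sndA : Tw θ X →+ X where
  toFun p := p.2
  map_zero' := rfl
  map_add' _ _ := rfl

/-- functoriality -/
def map (g : X →ₗ[A] Y) : Tw θ X →ₗ[A] Tw θ Y where
  toFun p := (g p.1, g p.2)
  map_add' p q := by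
    ext
    · exact map_add g p.1 q.1
    · exact map_add g p.2 q.2
  map_smul' a p := by
    ext
    · exact map_smul g a p.1
    · change g (a • p.2 + θ a • p.1) = a • g p.2 + θ a • g p.1
      rw [map_add, map_smul, map_smul]

/-- the section attached to a connection -/
def sec (c : Conn θ X) : X →ₗ[A] Tw θ X where
  toFun x := (x, c.D x)
  map_add' x y := by
    ext
    · rfl
    · exact map_add c.D x y
  map_smul' a x := by
    ext
    · rfl
    · change c.D (a • x) = a • c.D x + θ a • x
      rw [c.leib, add_comm]

/-- if `s` acts bijectively on `X`, it acts bijectively on `Tw θ X` -/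
lemma isUnit_smul (s : A) (h : Function.Bijective (fun x : X => s • x)) :
    IsUnit (algebraMap A (Module.End A (Tw θ X)) s) := by
  rw [Module.End.isUnit_iff]
  constructor
  · intro p q hpq
    have h1 : s • p.1 = s • q.1 := congrArg (fun r : Tw θ X => r.1) hpq
    have h1' : p.1 = q.1 := h.1 h1
    have h2 : s • p.2 + θ s • p.1 = s • q.2 + θ s • q.1 := congrArg (fun r : Tw θ X => r.2) hpq
    rw [h1'] at h2
    have h2' : p.2 = q.2 := h.1 (add_right_cancel h2)
    exact Tw.ext θ h1' h2'
  · intro q
    obtain ⟨x, hx⟩ := h.2 q.1
    obtain ⟨x', hx'⟩ := h.2 (q.2 - θ s • x)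
    refine ⟨(x, x'), ?_⟩
    apply Tw.ext θ
    · exact hx
    · change s • x' + θ s • x = q.2
      have : s • x' = q.2 - θ s • x := hx'
      rw [this, sub_add_cancel]

end Tw

end Groth.Agent.H45.DerConn
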