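import Groth.Agent.H45.DerConn.Cx

/-!
# Connections on mapping cones and cocones

(helper45)
-/

set_option autoImplicit false

namespace Groth.Agent.H45.DerConn

open CategoryTheory Limits HomologicalComplex CochainComplex

universe u

variable {A : Type u} [CommRing A] {θ : Derivation ℤ A A}
  {K L : CochainComplex (ModuleCat.{u} A) ℤ} (φ : K ⟶ L)

section coords

/-- first coordinate on the cone -/
noncomputable def cfst (n : ℤ) : (mappingCone φ).X n →ₗ[A] K.X (n + 1) :=
  ((mappingCone.fst φ).1.v n (n + 1) rfl).hom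

/-- second coordinate on the cone -/
noncomputable def csnd (n : ℤ) : (mappingCone φ).X n →ₗ[A] L.X n :=
  ((mappingCone.snd φ).v n n (add_zero n)).hom

/-- first inclusion -/
noncomputable def cinl (n : ℤ) : K.X (n + 1) →ₗ[A] (mappingCone φ).X n :=
  ((mappingCone.inl φ).v (n + 1) n (by omega)).hom

/-- second inclusion -/
noncomputable def cinr (n : ℤ) : L.X n →ₗ[A] (mappingCone φ).X n :=
  ((mappingCone.inr φ).f n).hom

lemma cfst_cinl (n : ℤ) (k : K.X (n + 1)) : cfst φ n (cinl φ n k) = k :=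
  ConcreteCategory.congr_hom (mappingCone.inl_v_fst_v φ (n + 1) n rfl) k

lemma csnd_cinl (n : ℤ) (k : K.X (n + 1)) : csnd φ n (cinl φ n k) = 0 :=
  ConcreteCategory.congr_hom (mappingCone.inl_v_snd_v φ (n + 1) n (by omega)) k

lemma cfst_cinr (n : ℤ) (l : L.X n) : cfst φ n (cinr φ n l) = 0 :=
  ConcreteCategory.congr_hom (mappingCone.inr_f_fst_v φ n (n + 1) rfl) l

lemma csnd_cinr (n : ℤ) (l : L.X n) : csnd φ n (cinr φ n l) = l :=
  ConcreteCategory.congr_hom (mappingCone.inr_f_snd_v φ n) l

lemma cinl_add_cinr (n : ℤ) (x : (mappingCone φ).X n) :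
    cinl φ n (cfst φ n x) + cinr φ n (csnd φ n x) = x :=
  ConcreteCategory.congr_hom (mappingCone.id_X φ n (n + 1) rfl) x

lemma cone_ext (n : ℤ) (x y : (mappingCone φ).X n) (h1 : cfst φ n x = cfst φ n y)
    (h2 : csnd φ n x = csnd φ n y) : x = y := by
  rw [← cinl_add_cinr φ n x, ← cinl_add_cinr φ n y, h1, h2]

lemma cfst_d (n : ℤ) (x : (mappingCone φ).X n) :
    cfst φ (n + 1) (((mappingCone φ).d n (n + 1)).hom x) =
      -(K.d (n + 1) (n + 1 + 1)).hom (cfst φ n x) :=
  ConcreteCategory.congr_hom (mappingCone.d_fst_v φ n (n + 1) (n + 1 + 1) rfl rfl) x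

lemma csnd_d (n : ℤ) (x : (mappingCone φ).X n) :
    csnd φ (n + 1) (((mappingCone φ).d n (n + 1)).hom x) =
      (φ.f (n + 1)).hom (cfst φ n x) + (L.d n (n + 1)).hom (csnd φ n x) :=
  ConcreteCategory.congr_hom (mappingCone.d_snd_v φ n (n + 1) rfl) x

end coords

namespace CxConn

variable {φ}

/-- the connection on the degree `n` term of the cone -/
noncomputable def coneConn (cK : CxConn θ K) (cL : CxConn θ L) (n : ℤ) :
    Conn θ ((mappingCone φ).X n) where
  D := ((cinl φ n : K.X (n + 1) →+ (mappingCone φ).X n).comp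
      ((cK.c (n + 1)).D.comp (cfst φ n : (mappingCone φ).X n →+ K.X (n + 1)))) +
    ((cinr φ n : L.X n →+ (mappingCone φ).X n).comp
      ((cL.c n).D.comp (csnd φ n : (mappingCone φ).X n →+ L.X n)))
  leib a x := by
    change cinl φ n ((cK.c (n + 1)).D (cfst φ n (a • x))) +
      cinr φ n ((cL.c n).D (csnd φ n (a • x))) =
      θ a • x + a • (cinl φ n ((cK.c (n + 1)).D (cfst φ n x)) +
        cinr φ n ((cL.c n).D (csnd φ n x)))
    rw [LinearMap.map_smul (cfst φ n), LinearMap.map_smul (csnd φ n), (cK.c (n + 1)).leib,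
      (cL.c n).leib, map_add, map_add, LinearMap.map_smul (cinl φ n),
      LinearMap.map_smul (cinl φ n), LinearMap.map_smul (cinr φ n),
      LinearMap.map_smul (cinr φ n), smul_add]
    have hx : θ a • x = θ a • cinl φ n (cfst φ n x) + θ a • cinr φ n (csnd φ n x) := by
      rw [← smul_add, cinl_add_cinr]
    rw [hx]
    abel

lemma coneConn_D (cK : CxConn θ K) (cL : CxConn θ L) (n : ℤ) (x : (mappingCone φ).X n) :
    (coneConn (φ := φ) cK cL n).D x = cinl φ n ((cK.c (n + 1)).D (cfst φ n x)) +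
      cinr φ n ((cL.c n).D (csnd φ n x)) := rfl

lemma cfst_coneConn (cK : CxConn θ K) (cL : CxConn θ L) (n : ℤ) (x : (mappingCone φ).X n) :
    cfst φ n ((coneConn (φ := φ) cK cL n).D x) = (cK.c (n + 1)).D (cfst φ n x) := by
  rw [coneConn_D, map_add, cfst_cinl, cfst_cinr, add_zero]

lemma csnd_coneConn (cK : CxConn θ K) (cL : CxConn θ L) (n : ℤ) (x : (mappingCone φ).X n) :
    csnd φ n ((coneConn (φ := φ) cK cL n).D x) = (cL.c n).D (csnd φ n x) := by
  rw [coneConn_D, map_add, csnd_cinl, csnd_cinr, zero_add]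

/-- the connection on the mapping cone -/
noncomputable def cone (cK : CxConn θ K) (cL : CxConn θ L) (h : Compat cK cL φ) :
    CxConn θ (mappingCone φ) where
  c n := coneConn cK cL n
  comm i j x := by
    by_cases hij : i + 1 = j
    · subst hij
      apply cone_ext φ (i + 1)
      · rw [cfst_coneConn, cfst_d, cfst_d, cfst_coneConn, map_neg, cK.comm]
      · rw [csnd_coneConn, csnd_d, csnd_d, cfst_coneConn, csnd_coneConn, map_add, h, cL.comm]
    · have h0 : (mappingCone φ).d i j = 0 := (mappingCone φ).shape i j hij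
      rw [h0]
      change (coneConn cK cL j).D 0 = 0
      exact map_zero _

/-- the connection on the mapping cocone -/
noncomputable def cocone (cK : CxConn θ K) (cL : CxConn θ L) (h : Compat cK cL φ) :
    CxConn θ (mappingCocone φ) :=
  (cone cK cL h).shift (-1)

end CxConn

end Groth.Agent.H45.DerConn
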