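import Mathlib.Algebra.Homology.ShortComplex.ModuleCat
import Mathlib.Algebra.Homology.ShortComplex.HomologicalComplex
import Mathlib.Algebra.Homology.HomologicalComplexAbelian
import Mathlib.Algebra.Category.ModuleCat.EpiMono

/-!
# Concrete homology classes for cochain complexes of modules

(helper45; the `ModuleCat` analogue of `Groth.Agent.H45.LimCx.AbHom`)
-/

set_option autoImplicit false

namespace Groth.Agent.H45.DerConn

open CategoryTheory Limits HomologicalComplex

universe u

variable {A : Type u} [CommRing A] (K L : CochainComplex (ModuleCat.{u} A) ℤ)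

/-- the module of `i`-cocycles -/
noncomputable abbrev Zobj (i k : ℤ) : ModuleCat.{u} A :=
  ModuleCat.of A (LinearMap.ker (K.d i k).hom)

/-- the inclusion of the cocycles -/
noncomputable abbrev Zι (i k : ℤ) : Zobj K i k ⟶ K.X i :=
  ModuleCat.ofHom (LinearMap.ker (K.d i k).hom).subtype

lemma Zι_d (i k : ℤ) : Zι K i k ≫ K.d i k = 0 := by
  ext ⟨x, hx⟩
  exact hx

/-- the map from concrete cocycles to the abstract cycles -/
noncomputable def toCyc (i k : ℤ) (hk : i + 1 = k) : Zobj K i k ⟶ K.cycles i :=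
  K.liftCycles (Zι K i k) k (by simp [← hk]) (Zι_d K i k)

lemma toCyc_i (i k : ℤ) (hk : i + 1 = k) : toCyc K i k hk ≫ K.iCycles i = Zι K i k :=
  K.liftCycles_i _ _ _ _

/-- the class map, a linear map from the cocycles to the homology -/
noncomputable def clsL {i k : ℤ} (hk : i + 1 = k) :
    LinearMap.ker (K.d i k).hom →ₗ[A] K.homology i :=
  (toCyc K i k hk ≫ K.homologyπ i).hom

/-- the class of a cocycle -/
noncomputable def cls {i k : ℤ} (hk : i + 1 = k) (x : K.X i) (hx : (K.d i k).hom x = 0) :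
    K.homology i :=
  clsL K hk ⟨x, hx⟩

lemma iCycles_injective (i : ℤ) : Function.Injective (K.iCycles i).hom :=
  (ModuleCat.mono_iff_injective _).1 inferInstance

lemma cls_surjective {i k : ℤ} (hk : i + 1 = k) (h : K.homology i) :
    ∃ (x : K.X i) (hx : (K.d i k).hom x = 0), cls K hk x hx = h := by
  obtain ⟨c, rfl⟩ := (ModuleCat.epi_iff_surjective (K.homologyπ i)).1 inferInstance h
  have hx : (K.d i k).hom ((K.iCycles i).hom c) = 0 := by
    have := ConcreteCategory.congr_hom (K.iCycles_d i k) c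
    exact this
  refine ⟨(K.iCycles i).hom c, hx, ?_⟩
  have hc : (toCyc K i k hk).hom ⟨(K.iCycles i).hom c, hx⟩ = c := by
    apply iCycles_injective K i
    exact ConcreteCategory.congr_hom (toCyc_i K i k hk) ⟨(K.iCycles i).hom c, hx⟩
  change (K.homologyπ i).hom ((toCyc K i k hk).hom ⟨(K.iCycles i).hom c, hx⟩) = _
  rw [hc]

lemma cls_eq_zero_iff {j i k : ℤ} (hj : j + 1 = i) (hk : i + 1 = k) (x : K.X i)
    (hx : (K.d i k).hom x = 0) :
    cls K hk x hx = 0 ↔ ∃ y : K.X j, (K.d j i).hom y = x := by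
  have hex : (ShortComplex.mk (K.toCycles j i) (K.homologyπ i)
      (K.toCycles_comp_homologyπ j i)).Exact :=
    ShortComplex.exact_of_g_is_cokernel _ (K.homologyIsCokernel j i (by simp [← hj]))
  rw [ShortComplex.moduleCat_exact_iff] at hex
  constructor
  · intro h
    obtain ⟨y, hy⟩ := hex ((toCyc K i k hk).hom ⟨x, hx⟩) h
    refine ⟨y, ?_⟩
    have h1 := ConcreteCategory.congr_hom (K.toCycles_i j i) y
    have h2 := ConcreteCategory.congr_hom (toCyc_i K i k hk) ⟨x, hx⟩
    change (K.iCycles i).hom ((K.toCycles j i).hom y) = (K.d j i).hom y at h1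
    change (K.iCycles i).hom ((toCyc K i k hk).hom ⟨x, hx⟩) = x at h2
    rw [← h1, ← h2]
    exact congrArg _ hy
  · rintro ⟨y, rfl⟩
    have hc : (toCyc K i k hk).hom ⟨(K.d j i).hom y, hx⟩ = (K.toCycles j i).hom y := by
      apply iCycles_injective K i
      have h1 := ConcreteCategory.congr_hom (K.toCycles_i j i) y
      have h2 := ConcreteCategory.congr_hom (toCyc_i K i k hk) ⟨(K.d j i).hom y, hx⟩
      exact h2.trans h1.symm
    change (K.homologyπ i).hom ((toCyc K i k hk).hom ⟨(K.d j i).hom y, hx⟩) = 0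
    rw [hc]
    exact ConcreteCategory.congr_hom (K.toCycles_comp_homologyπ j i) y

lemma cls_add {i k : ℤ} (hk : i + 1 = k) (x y : K.X i) (hx : (K.d i k).hom x = 0)
    (hy : (K.d i k).hom y = 0) :
    cls K hk (x + y) (by rw [map_add, hx, hy, add_zero]) = cls K hk x hx + cls K hk y hy :=
  map_add (clsL K hk) ⟨x, hx⟩ ⟨y, hy⟩

lemma cls_sub {i k : ℤ} (hk : i + 1 = k) (x y : K.X i) (hx : (K.d i k).hom x = 0)
    (hy : (K.d i k).hom y = 0) :
    cls K hk (x - y) (by rw [map_sub, hx, hy, sub_zero]) = cls K hk x hx - cls K hk y hy :=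
  map_sub (clsL K hk) ⟨x, hx⟩ ⟨y, hy⟩

lemma cls_smul {i k : ℤ} (hk : i + 1 = k) (a : A) (x : K.X i) (hx : (K.d i k).hom x = 0) :
    cls K hk (a • x) (by rw [map_smul, hx, smul_zero]) = a • cls K hk x hx :=
  map_smul (clsL K hk) a ⟨x, hx⟩

lemma cls_congr {i k : ℤ} (hk : i + 1 = k) {x y : K.X i} (h : x = y)
    (hx : (K.d i k).hom x = 0) : cls K hk x hx = cls K hk y (h ▸ hx) := by
  subst h
  rfl

end Groth.Agent.H45.DerConn
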