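import Groth.Agent.H45.DerConn.Localized
import Groth.Agent.H45.DerConn.ModHom
import Groth.Prelude.Def_DerCA
import Mathlib.Algebra.Homology.HomotopyCategory.MappingCocone

/-!
# Connections on complexes of modules

A connection on a complex `K` of `A`-modules (`CxConn θ K`) is a family of `θ`-connections on the
terms commuting with the differentials.  They pass to termwise localisations, mapping cones, shifts
(hence mapping cocones) and to the cohomology modules.

(helper45)
-/

set_option autoImplicit false

namespace Groth.Agent.H45.DerConn

open CategoryTheory Limits HomologicalComplex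

universe u

variable {A : Type u} [CommRing A] (θ : Derivation ℤ A A)

/-- a connection on a complex of modules -/
structure CxConn (K : CochainComplex (ModuleCat.{u} A) ℤ) where
  c : ∀ n, Conn θ (K.X n)
  comm : ∀ (i j : ℤ) (x : K.X i), (c j).D ((K.d i j).hom x) = (K.d i j).hom ((c i).D x)

variable {θ}

/-- a morphism of complexes compatible with connections -/
def Compat {K L : CochainComplex (ModuleCat.{u} A) ℤ} (cK : CxConn θ K) (cL : CxConn θ L)
    (φ : K ⟶ L) : Prop :=
  ∀ (n : ℤ) (x : K.X n), (cL.c n).D ((φ.f n).hom x) = (φ.f n).hom ((cK.c n).D x)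

namespace CxConn

/-- a module with connection, in degree `0` -/
noncomputable def single (M : ModuleCat.{u} A) (c : Conn θ M) :
    CxConn θ ((HomologicalComplex.single (ModuleCat.{u} A) (ComplexShape.up ℤ) 0).obj M) where
  c n :=
    if h : n = 0 then
      Conn.ofEquiv ((HomologicalComplex.singleObjXIsoOfEq (ComplexShape.up ℤ) 0 M n h).symm.toLinearEquiv) c
    else
      haveI : Subsingleton (((HomologicalComplex.single (ModuleCat.{u} A) (ComplexShape.up ℤ) 0).obj
          M).X n) :=
        ModuleCat.subsingleton_of_isZero (HomologicalComplex.isZero_single_obj_X _ _ _ _ h)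
      Conn.ofSubsingleton
  comm i j x := by
    rw [HomologicalComplex.single_obj_d]
    change _ = 0
    exact map_zero _

variable {K L : CochainComplex (ModuleCat.{u} A) ℤ}

/-- termwise localisation -/
noncomputable def loc (S : Submonoid A) (cK : CxConn θ K) : CxConn θ ((DerCA.locCx S).obj K) where
  c n := (cK.c n).localized S
  comm i j x := Conn.localized_map S (cK.c i) (cK.c j) (K.d i j).hom (fun m => cK.comm i j m) x

lemma compat_locCxUnit (S : Submonoid A) (cK : CxConn θ K) :
    Compat cK (cK.loc S) (DerCA.locCxUnit S K) :=
  fun n x => Conn.localized_mk S (cK.c n) x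

/-- shift -/
noncomputable def shift (cK : CxConn θ K) (a : ℤ) : CxConn θ (K⟦a⟧) where
  c n := cK.c (n + a)
  comm i j x := by
    have h : (K⟦a⟧).d i j = a.negOnePow • K.d (i + a) (j + a) :=
      CochainComplex.shiftFunctor_obj_d' K a i j
    rw [h]
    change (cK.c (j + a)).D (a.negOnePow • (K.d (i + a) (j + a)).hom x) =
      a.negOnePow • (K.d (i + a) (j + a)).hom ((cK.c (i + a)).D x)
    rw [← cK.comm]
    rw [Units.smul_def, Units.smul_def, map_zsmul]

end CxConn

end Groth.Agent.H45.DerConn
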