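import Groth.Agent.H45.DerConn.Cone

/-!
# The connection induced on cohomology, and on the extended Čech complex

(helper45)
-/

set_option autoImplicit false

namespace Groth.Agent.H45.DerConn

open CategoryTheory Limits HomologicalComplex CochainComplex

universe u

variable {A : Type u} [CommRing A] {θ : Derivation ℤ A A}
  {K : CochainComplex (ModuleCat.{u} A) ℤ}

namespace CxConn

variable (cK : CxConn θ K)

lemma d_D_eq_zero {i k : ℤ} (x : K.X i) (hx : (K.d i k).hom x = 0) :
    (K.d i k).hom ((cK.c i).D x) = 0 := by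
  rw [← cK.comm, hx, map_zero]

lemma cls_D_congr {j i k : ℤ} (hj : j + 1 = i) (hk : i + 1 = k) (x x' : K.X i)
    (hx : (K.d i k).hom x = 0) (hx' : (K.d i k).hom x' = 0)
    (h : cls K hk x hx = cls K hk x' hx') :
    cls K hk ((cK.c i).D x) (cK.d_D_eq_zero x hx) =
      cls K hk ((cK.c i).D x') (cK.d_D_eq_zero x' hx') := by
  have h0 : cls K hk (x - x') (by rw [map_sub, hx, hx', sub_zero]) = 0 := by
    rw [cls_sub K hk x x' hx hx', h, sub_self]
  obtain ⟨y, hy⟩ := (cls_eq_zero_iff K hj hk _ _).1 h0
  have h1 : cls K hk ((cK.c i).D x - (cK.c i).D x')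
      (by rw [map_sub, cK.d_D_eq_zero x hx, cK.d_D_eq_zero x' hx', sub_zero]) = 0 :=
    (cls_eq_zero_iff K hj hk _ _).2 ⟨(cK.c j).D y, by rw [← cK.comm, hy, map_sub]⟩
  rw [cls_sub K hk _ _ (cK.d_D_eq_zero x hx) (cK.d_D_eq_zero x' hx')] at h1
  exact sub_eq_zero.1 h1

/-- the operator on cohomology -/
noncomputable def homologyD (i : ℤ) (h : K.homology i) : K.homology i :=
  cls K (rfl : i + 1 = i + 1) ((cK.c i).D (cls_surjective K rfl h).choose)
    (cK.d_D_eq_zero _ (cls_surjective K rfl h).choose_spec.choose)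

lemma homologyD_cls (i : ℤ) (x : K.X i) (hx : (K.d i (i + 1)).hom x = 0) :
    cK.homologyD i (cls K rfl x hx) = cls K rfl ((cK.c i).D x) (cK.d_D_eq_zero x hx) :=
  cK.cls_D_congr (j := i - 1) (by omega) rfl _ _ _ _
    (cls_surjective K rfl (cls K rfl x hx)).choose_spec.choose_spec

/-- the connection on the cohomology module -/
noncomputable def homology (i : ℤ) : Conn θ (K.homology i) where
  D :=
    { toFun := cK.homologyD i
      map_zero' := by
        have h0 : (0 : K.homology i) = cls K rfl (0 : K.X i) (map_zero _) :=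
          (map_zero (clsL K rfl)).symm
        rw [h0, homologyD_cls]
        exact cls_congr K rfl (map_zero _) _
      map_add' h h' := by
        obtain ⟨x, hx, rfl⟩ := cls_surjective K rfl h
        obtain ⟨x', hx', rfl⟩ := cls_surjective K rfl h'
        rw [← cls_add K rfl x x' hx hx', homologyD_cls, homologyD_cls, homologyD_cls,
          ← cls_add K rfl _ _ (cK.d_D_eq_zero x hx) (cK.d_D_eq_zero x' hx')]
        exact cls_congr K rfl (map_add _ x x') _ }
  leib a h := by
    obtain ⟨x, hx, rfl⟩ := cls_surjective K rfl h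
    change cK.homologyD i (a • cls K rfl x hx) = θ a • cls K rfl x hx + a • cK.homologyD i (cls K rfl x hx)
    rw [← cls_smul K rfl a x hx, homologyD_cls, homologyD_cls,
      ← cls_smul K rfl (θ a) x hx, ← cls_smul K rfl a _ (cK.d_D_eq_zero x hx),
      ← cls_add K rfl _ _ (by rw [map_smul, hx, smul_zero])
        (by rw [map_smul, cK.d_D_eq_zero x hx, smul_zero])]
    exact cls_congr K rfl ((cK.c i).leib a x) _

end CxConn

/-- the extended Čech complex of a module with connection carries a connection -/
theorem nonempty_cxConn_extCech (M : ModuleCat.{u} A) (c : Conn θ M) :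
    ∀ fs : List A, Nonempty (CxConn θ (DerCA.extCech M fs))
  | [] => ⟨CxConn.single M c⟩
  | f :: fs => by
    obtain ⟨cK⟩ := nonempty_cxConn_extCech M c fs
    exact ⟨CxConn.cocone cK (cK.loc (Submonoid.powers f))
      (cK.compat_locCxUnit (Submonoid.powers f))⟩

end Groth.Agent.H45.DerConn
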