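import Groth.Agent.H45.DerConn.Basic

/-!
# Connections on localised modules

(helper45)
-/

set_option autoImplicit false

namespace Groth.Agent.H45.DerConn

universe u

variable {A : Type u} [CommRing A] {θ : Derivation ℤ A A} (S : Submonoid A)
  {M N : Type u} [AddCommGroup M] [Module A M] [AddCommGroup N] [Module A N]

lemma bijective_smul_localized (s : S) :
    Function.Bijective (fun x : LocalizedModule S M => (s : A) • x) := by
  have h := IsLocalizedModule.map_units (LocalizedModule.mkLinearMap S M) s
  rw [Module.End.isUnit_iff] at h
  exact h

lemma isUnit_tw (s : S) :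
    IsUnit (algebraMap A (Module.End A (Tw θ (LocalizedModule S M))) s) :=
  Tw.isUnit_smul θ (s : A) (bijective_smul_localized S s)

namespace Conn

variable (c : Conn θ M)

/-- the lifted section `M_S → Tw θ M_S` -/
noncomputable def locSec : LocalizedModule S M →ₗ[A] Tw θ (LocalizedModule S M) :=
  IsLocalizedModule.lift S (LocalizedModule.mkLinearMap S M)
    ((Tw.map θ (LocalizedModule.mkLinearMap S M)).comp (Tw.sec θ c)) (isUnit_tw S)

lemma locSec_mk (m : M) :
    c.locSec S (LocalizedModule.mkLinearMap S M m) =
      (LocalizedModule.mkLinearMap S M m, LocalizedModule.mkLinearMap S M (c.D m)) :=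
  IsLocalizedModule.lift_apply S (LocalizedModule.mkLinearMap S M) _ (isUnit_tw S) m

lemma locSec_fst (x : LocalizedModule S M) : (c.locSec S x).1 = x := by
  have h : (Tw.fstL θ).comp (c.locSec S) = LinearMap.id := by
    refine IsLocalizedModule.ext S (LocalizedModule.mkLinearMap S M)
      (IsLocalizedModule.map_units (LocalizedModule.mkLinearMap S M)) ?_
    ext m
    change (c.locSec S (LocalizedModule.mkLinearMap S M m)).1 = _
    rw [locSec_mk]
    rfl
  exact LinearMap.congr_fun h x

/-- the connection on the localised module -/
noncomputable def localized : Conn θ (LocalizedModule S M) where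
  D := (Tw.sndA θ).comp (c.locSec S : LocalizedModule S M →+ Tw θ (LocalizedModule S M))
  leib a x := by
    change (c.locSec S (a • x)).2 = θ a • x + a • (c.locSec S x).2
    rw [map_smul, Tw.smul_snd, locSec_fst, add_comm]

lemma localized_mk (m : M) :
    (c.localized S).D (LocalizedModule.mkLinearMap S M m) =
      LocalizedModule.mkLinearMap S M (c.D m) := by
  change (c.locSec S (LocalizedModule.mkLinearMap S M m)).2 = _
  rw [locSec_mk]

/-- naturality of the localised connection -/
lemma localized_map (c' : Conn θ N) (g : M →ₗ[A] N) (hg : ∀ m, c'.D (g m) = g (c.D m))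
    (x : LocalizedModule S M) :
    (c'.localized S).D (IsLocalizedModule.map S (LocalizedModule.mkLinearMap S M)
        (LocalizedModule.mkLinearMap S N) g x) =
      IsLocalizedModule.map S (LocalizedModule.mkLinearMap S M)
        (LocalizedModule.mkLinearMap S N) g ((c.localized S).D x) := by
  have h : (c'.locSec S).comp (IsLocalizedModule.map S (LocalizedModule.mkLinearMap S M)
        (LocalizedModule.mkLinearMap S N) g) =
      (Tw.map θ (IsLocalizedModule.map S (LocalizedModule.mkLinearMap S M)
        (LocalizedModule.mkLinearMap S N) g)).comp (c.locSec S) := by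
    refine IsLocalizedModule.ext S (LocalizedModule.mkLinearMap S M) (isUnit_tw S) ?_
    ext m
    · change (c'.locSec S (IsLocalizedModule.map S (LocalizedModule.mkLinearMap S M)
        (LocalizedModule.mkLinearMap S N) g (LocalizedModule.mkLinearMap S M m))).1 =
        IsLocalizedModule.map S (LocalizedModule.mkLinearMap S M)
        (LocalizedModule.mkLinearMap S N) g (c.locSec S (LocalizedModule.mkLinearMap S M m)).1
      rw [locSec_fst, locSec_fst]
    · change (c'.locSec S (IsLocalizedModule.map S (LocalizedModule.mkLinearMap S M)
        (LocalizedModule.mkLinearMap S N) g (LocalizedModule.mkLinearMap S M m))).2 =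
        IsLocalizedModule.map S (LocalizedModule.mkLinearMap S M)
        (LocalizedModule.mkLinearMap S N) g (c.locSec S (LocalizedModule.mkLinearMap S M m)).2
      rw [IsLocalizedModule.map_apply, locSec_mk, locSec_mk, IsLocalizedModule.map_apply, hg]
  have h2 := LinearMap.congr_fun h x
  exact congrArg (fun p : Tw θ (LocalizedModule S N) => p.2) h2

end Conn

end Groth.Agent.H45.DerConn
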